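import Groth.Agent.H18.ResProp.FinGG
import Groth.Agent.H45.KFlat.Associator
import Groth.Agent.H5.FinLocFreeOps
import Groth.Agent.H18.Cocycle.Inverse
import Groth.Agent.H18.STL.TwistGG
import Groth.Agent.H18.STL.AmpleBasis
import Groth.Agent.H71.QCoh.TensorQCoh
import Groth.Prelude.Def_PerfAux

/-!
# The resolution property of a scheme with an ample invertible module (helper18)

* `tensorModAssoc` : the associator of `CohB1.tensorMod` (H45's associator of the sheaf tensor
  product, which is definitionally the same tensor product);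
* `exists_epi_tensorMod_inverse` : a quotient `G ↠ M ⊗ N` with `N` invertible gives a quotient
  `G ⊗ N⁻¹ ↠ M`;
* `hasResolutionProperty_of_isAmple`.
-/

set_option autoImplicit false
universe u
open CategoryTheory CategoryTheory.Limits AlgebraicGeometry TopologicalSpace Opposite

namespace Groth.Agent.H18.ResProp

open Groth.Agent.H18 Groth.Agent.H18.STL

variable {X : Scheme.{u}}

/-- the associator of `tensorMod` -/
noncomputable def tensorModAssoc (A B D : X.Modules) :
    CohB1.tensorMod (CohB1.tensorMod A B) D ≅ CohB1.tensorMod A (CohB1.tensorMod B D) :=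
  Groth.Agent.H45.tensorAssocApp (C := Opens X) (J := Opens.grothendieckTopology X) X.sheaf A B D

/-- free modules of finite rank are finite locally free -/
theorem isFinLocFree_freeMod (n : ℕ) : FlatMod.IsFinLocFree (FlatMod.freeMod X n) :=
  fun _ => ⟨⊤, n, trivial, ⟨Groth.Agent.H92.LocFreeRank.restrictFreeIso _ n⟩⟩

/-- the free module of rank one is the structure module -/
noncomputable def freeModOneIso (X : Scheme.{u}) :
    FlatMod.freeMod X 1 ≅ Coh.structureModule X where
  hom := Sigma.desc (fun _ => 𝟙 _)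
  inv := Sigma.ι (fun _ : Fin 1 => Coh.structureModule X) 0
  hom_inv_id := by
    apply Sigma.hom_ext
    intro i
    have hi : i = 0 := Subsingleton.elim _ _
    subst hi
    simp
  inv_hom_id := by simp

/-- invertible modules are finite locally free -/
theorem isFinLocFree_of_isInvertible {L : X.Modules} (hL : PicF.IsInvertible L) :
    FlatMod.IsFinLocFree L := by
  intro x
  obtain ⟨U, hx, ⟨e⟩⟩ := hL x
  exact ⟨U, 1, hx, ⟨e ≪≫ (freeModOneIso _).symm⟩⟩

/-- the tensor product of finite locally free modules is finite locally free -/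
theorem isFinLocFree_tensorMod (A B : X.Modules) (hA : FlatMod.IsFinLocFree A)
    (hB : FlatMod.IsFinLocFree B) : FlatMod.IsFinLocFree (CohB1.tensorMod A B) :=
  Groth.Agent.H5.FinLocFreeOps.isFinLocFree_tensor A B hA hB

/-- tensoring (on the right) with a module preserves epimorphisms -/
theorem epi_tensorMap_left {A B : X.Modules} (p : A ⟶ B) [Epi p] (N : X.Modules) :
    Epi (KoszTw.tensorMap p (𝟙 N)) := by
  haveI : PreservesColimitsOfSize.{u, u} ((DCoh.tensorBi (X := X)).flip.obj N) :=
    Groth.Agent.H45.preservesColimits_tensorBi_flip_obj (O := X.sheaf) N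
  haveI : ((DCoh.tensorBi (X := X)).flip.obj N).PreservesEpimorphisms :=
    preservesEpimorphisms_of_preservesColimitsOfShape _
  rw [← KoszTw.tensorBi_map_app]
  exact ((DCoh.tensorBi (X := X)).flip.obj N).map_epi p

/-- tensoring (on the left) with a module preserves epimorphisms -/
theorem epi_tensorMap_right (M : X.Modules) {A B : X.Modules} (p : A ⟶ B) [Epi p] :
    Epi (KoszTw.tensorMap (𝟙 M) p) := by
  haveI : PreservesColimitsOfSize.{u, u} ((DCoh.tensorBi (X := X)).obj M) :=
    Groth.Agent.H45.preservesColimits_tensorBi_obj (O := X.sheaf) M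
  haveI : ((DCoh.tensorBi (X := X)).obj M).PreservesEpimorphisms :=
    preservesEpimorphisms_of_preservesColimitsOfShape _
  rw [← KoszTw.tensorBi_obj_map]
  exact ((DCoh.tensorBi (X := X)).obj M).map_epi p

/-- twisting down: a quotient `G ↠ M ⊗ N` with `N` invertible gives a quotient `G ⊗ N⁻¹ ↠ M` -/
theorem exists_epi_tensorMod_inverse {G M N : X.Modules} (hN : PicF.IsInvertible N)
    (p : G ⟶ CohB1.tensorMod M N) [Epi p] :
    ∃ (N' : X.Modules) (π : CohB1.tensorMod G N' ⟶ M), PicF.IsInvertible N' ∧ Epi π := by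
  obtain ⟨N', hN', ⟨e⟩⟩ := exists_inverse hN
  haveI h1 : Epi (KoszTw.tensorMap p (𝟙 N')) := epi_tensorMap_left p N'
  haveI h2 : IsIso (KoszTw.tensorMap (𝟙 M) e.hom) := by
    rw [← KoszTw.tensorBi_obj_map]
    exact (((DCoh.tensorBi (X := X)).obj M).mapIso e).isIso_hom
  refine ⟨N', KoszTw.tensorMap p (𝟙 N') ≫ (tensorModAssoc M N N').hom ≫
    KoszTw.tensorMap (𝟙 M) e.hom ≫ (SecTwist.unitorR M).hom, hN', ?_⟩
  infer_instance

/-- a scheme with an ample invertible module has the resolution property -/
theorem hasResolutionProperty_of_isAmple {L : X.Modules} (hL : CohB1.IsAmple L) :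
    PerfAux.HasResolutionProperty X := by
  intro M hMq hMf
  haveI : CompactSpace X := hL.2.1
  haveI : QuasiSeparatedSpace X := quasiSeparatedSpace_of_cover hL.1 hL.2.2
  haveI : M.IsQuasicoherent := hMq
  haveI : SheafOfModules.IsFiniteType (R := X.ringCatSheaf) M := hMf
  obtain ⟨n₀, hn₀⟩ := exists_forall_epi_free_of_isAmple hL M
  obtain ⟨ι, p, hp⟩ := hn₀ n₀ le_rfl
  have hNinv : PicF.IsInvertible (CohB1.tensorPow L n₀) := isInvertible_tensorPow hL.1 n₀
  haveI : (CohB1.tensorPow L n₀).IsQuasicoherent := isQuasicoherent_of_isInvertible hNinv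
  haveI : SheafOfModules.IsFiniteType (R := X.ringCatSheaf) (CohB1.tensorPow L n₀) :=
    Groth.Agent.H71.QCoh.isFiniteType_of_isFinLocFree _ (isFinLocFree_of_isInvertible hNinv)
  have hft : SheafOfModules.IsFiniteType (R := X.ringCatSheaf)
      (CohB1.tensorMod M (CohB1.tensorPow L n₀)) :=
    Groth.Agent.H71.QCoh.isFiniteType_tensorMod M (CohB1.tensorPow L n₀)
  obtain ⟨k, q, hq⟩ := exists_fin_epi_of_epi_free _ hft p
  obtain ⟨N', π, hN', hπ⟩ := exists_epi_tensorMod_inverse hNinv q
  exact ⟨_, π, isFinLocFree_tensorMod _ _ (isFinLocFree_freeMod k)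
    (isFinLocFree_of_isInvertible hN'), hπ⟩

end Groth.Agent.H18.ResProp
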