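import Groth.Agent.H18.ResProp.Relative
import Groth.Agent.H18.STL.QuasiAffine2
import Groth.Agent.H67.ParaMono
import Groth.Agent.H67.ParaExt

/-!
# The resolution property along affine morphisms (helper18)
-/

set_option autoImplicit false
universe u
open CategoryTheory CategoryTheory.Limits AlgebraicGeometry TopologicalSpace Opposite

namespace Groth.Agent.H18.ResProp

variable {X Y : Scheme.{u}}

/-- the structure module is ample relative to an affine morphism -/
theorem isRelAmple_structureModule_of_isAffineHom (f : X ⟶ Y) [IsAffineHom f] :
    RelAmple.IsRelAmple f (Coh.structureModule X) := by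
  refine ⟨inferInstance, fun V => ?_⟩
  haveI : IsAffine (f ⁻¹ᵁ V.1 : Scheme.{u}) := IsAffineHom.isAffine_preimage _ V.2
  exact Groth.Agent.H18.STL.isAmple_of_isQuasiAffine
    (Groth.Agent.H67.ParaMono.isInvertible_restrict _ _
      Groth.Agent.H67.ParaExt.isInvertible_structureModule)

/-- the resolution property passes up along affine morphisms -/
theorem hasResolutionProperty_of_isAffineHom (f : X ⟶ Y) [IsAffineHom f] [CompactSpace Y]
    [QuasiSeparatedSpace Y] (hY : PerfAux.HasResolutionProperty Y) :
    PerfAux.HasResolutionProperty X :=
  hasResolutionProperty_of_isRelAmple f hY (isRelAmple_structureModule_of_isAffineHom f)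

end Groth.Agent.H18.ResProp
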