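import Groth.Agent.H18.ResProp.Spread
import Groth.Agent.H18.Counit.Converse
import Groth.Agent.H18.FTypeConverse
import Groth.Agent.H18.NegTwist

/-!
# Finitely many sections over preimages suffice (helper18)

Let `f : X ⟶ Y` with `X` quasi-compact and `P` an `O_X`-module of finite type such that the counit
`f^* f_* P ⟶ P` is an epimorphism.

* `exists_finite_secSet_of_epi_counit` : there is a finite set `T` of sections of `f_* P` over affine
  opens of `Y` which generate `P` locally;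
* `epi_homEquiv_symm_of_secSet` : a morphism `ψ : G ⟶ f_* P` whose image locally contains the
  sections in `T` has an epimorphic adjoint `f^* G ⟶ P`.
-/

set_option autoImplicit false
set_option linter.style.haveILetI false
universe u
open CategoryTheory CategoryTheory.Limits AlgebraicGeometry TopologicalSpace Opposite

namespace Groth.Agent.H18.ResProp

open Groth.Agent.H18 Groth.Agent.H18.STL Groth.Agent.H5.Stalk Groth.Agent.H5.Stalk.Tensor
open Groth.Agent.H18.CounitCrit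

variable {X Y : Scheme.{u}}

/-- the restrictions to `W` of those sections in `T` whose domain contains `W` -/
def secSet (f : X ⟶ Y) (P : X.Modules) (T : Set (Σ V : Y.affineOpens, Γ(P, f ⁻¹ᵁ V.1)))
    (W : X.Opens) : Set Γ(P, W) :=
  {z | ∃ a ∈ T, ∃ h : W ≤ f ⁻¹ᵁ a.1.1, z = mres P h a.2}

theorem secSet_mono (f : X ⟶ Y) (P : X.Modules)
    {T T' : Set (Σ V : Y.affineOpens, Γ(P, f ⁻¹ᵁ V.1))} (h : T ⊆ T') (W : X.Opens) :
    secSet f P T W ⊆ secSet f P T' W := by
  rintro z ⟨a, ha, hW, rfl⟩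
  exact ⟨a, h ha, hW, rfl⟩

theorem mres_mem_span_secSet (f : X ⟶ Y) (P : X.Modules)
    (T : Set (Σ V : Y.affineOpens, Γ(P, f ⁻¹ᵁ V.1))) {W W' : X.Opens} (h : W' ≤ W)
    {s : Γ(P, W)} (hs : s ∈ Submodule.span Γ(X, W) (secSet f P T W)) :
    mres P h s ∈ Submodule.span Γ(X, W') (secSet f P T W') := by
  induction hs using Submodule.span_induction with
  | mem y hy =>
    obtain ⟨a, ha, hW, rfl⟩ := hy
    refine Submodule.subset_span ⟨a, ha, h.trans hW, ?_⟩
    exact mres_mres P _ _ _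
  | zero => rw [map_zero]; exact Submodule.zero_mem _
  | add y z _ _ hy hz => rw [map_add]; exact Submodule.add_mem _ hy hz
  | smul a y _ hy => rw [mres_smul]; exact Submodule.smul_mem _ _ hy

/-- **finitely many sections over preimages of affine opens generate** -/
theorem exists_finite_secSet_of_epi_counit [CompactSpace X] (f : X ⟶ Y) (P : X.Modules)
    (hP : SheafOfModules.IsFiniteType (R := X.ringCatSheaf) P)
    (hepi : Epi ((Scheme.Modules.pullbackPushforwardAdjunction f).counit.app P)) :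
    ∃ T : Finset (Σ V : Y.affineOpens, Γ(P, f ⁻¹ᵁ V.1)),
      ∀ (U : X.Opens) (s : Γ(P, U)) (x : X), x ∈ U → ∃ (W : X.Opens) (hW : W ≤ U), x ∈ W ∧
        mres P hW s ∈ Submodule.span Γ(X, W) (secSet f P (T : Set _) W) := by
  classical
  obtain ⟨ι, U, hU, σ, hσ, s, hs⟩ := exists_local_generators_of_isFiniteType P hP
  have key : ∀ x : X, ∃ (i : ι) (W : X.Opens) (hW : W ≤ U i)
      (T : Finset (Σ V : Y.affineOpens, Γ(P, f ⁻¹ᵁ V.1))), x ∈ W ∧
      ∀ j : σ i, mres P hW (s i j) ∈ Submodule.span Γ(X, W) (secSet f P (T : Set _) W) := by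
    intro x
    obtain ⟨i, hxi⟩ := hU.exists_mem x
    haveI := hσ i
    let I := Σ V : {V : Y.affineOpens // x ∈ f ⁻¹ᵁ V.1}, Γ(P, f ⁻¹ᵁ V.1.1)
    have hspan : Submodule.span (X.presheaf.stalk x)
        (Set.range fun a : I => gm x P (f ⁻¹ᵁ a.1.1.1) a.1.2 a.2) = ⊤ := by
      have h0 := span_germ_preimage_eq_top_of_epi_counit f P hepi x
      refine eq_top_iff.2 (le_trans (le_of_eq h0.symm) ?_)
      refine Submodule.span_le.2 ?_
      rintro _ ⟨⟨⟨V₀, hxV₀⟩, t⟩, rfl⟩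
      obtain ⟨V, hVaff, hxV, hVV₀⟩ := Opens.isBasis_iff_nbhd.1 Y.isBasis_affineOpens
        (show f x ∈ V₀ from hxV₀)
      have hle : f ⁻¹ᵁ V ≤ f ⁻¹ᵁ V₀ := f.preimage_mono hVV₀
      have hmem : gm x P (f ⁻¹ᵁ V) hxV (mres P hle t) ∈ Submodule.span (X.presheaf.stalk x)
          (Set.range fun a : I => gm x P (f ⁻¹ᵁ a.1.1.1) a.1.2 a.2) :=
        Submodule.subset_span ⟨⟨⟨⟨V, hVaff⟩, hxV⟩, mres P hle t⟩, rfl⟩
      have heq : gm x P (f ⁻¹ᵁ V) hxV (mres P hle t) = gm x P (f ⁻¹ᵁ V₀) hxV₀ t :=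
        gm_res x P (homOfLE hle) hxV t
      rw [heq] at hmem
      exact hmem
    have h1 : ∀ j : σ i, ∃ (W : X.Opens) (hW : W ≤ U i)
        (T : Finset (Σ V : Y.affineOpens, Γ(P, f ⁻¹ᵁ V.1))), x ∈ W ∧
        mres P hW (s i j) ∈ Submodule.span Γ(X, W) (secSet f P (T : Set _) W) := by
      intro j
      obtain ⟨W, hW, hxW, S, hS, c, hsum⟩ := exists_mres_eq_sum_of_gm_mem_span P hxi (s i j)
        (fun a : I => f ⁻¹ᵁ a.1.1.1) (fun a => a.1.2) (fun a => a.2)
        (by rw [hspan]; exact Submodule.mem_top)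
      refine ⟨W, hW, S.image (fun a : I =>
        (⟨a.1.1, a.2⟩ : Σ V : Y.affineOpens, Γ(P, f ⁻¹ᵁ V.1))), hxW, ?_⟩
      rw [hsum]
      refine Submodule.sum_mem _ (fun a _ => Submodule.smul_mem _ _ (Submodule.subset_span ?_))
      exact ⟨⟨a.1.1.1, a.1.2⟩, Finset.mem_coe.2 (Finset.mem_image_of_mem _ a.2), hS a.1 a.2, rfl⟩
    choose W hW T hxW hmem using h1
    let W₀ : X.Opens := U i ⊓ ⟨⋂ j, (W j : Set X), isOpen_iInter_of_finite fun j => (W j).isOpen⟩
    have hW₀j : ∀ j, W₀ ≤ W j := fun j => inf_le_right.trans (fun y hy => Set.mem_iInter.1 hy j)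
    haveI : Fintype (σ i) := Fintype.ofFinite _
    refine ⟨i, W₀, inf_le_left, Finset.univ.biUnion T, ⟨hxi, Set.mem_iInter.2 hxW⟩, fun j => ?_⟩
    have h2 := mres_mem_span_secSet f P _ (hW₀j j) (hmem j)
    rw [mres_mres] at h2
    refine Submodule.span_mono (secSet_mono f P ?_ W₀) h2
    intro a ha
    exact Finset.mem_coe.2 (Finset.mem_biUnion.2 ⟨j, Finset.mem_univ j, Finset.mem_coe.1 ha⟩)
  choose i W hW T hxW hmem using key
  obtain ⟨F, hF⟩ := CompactSpace.elim_nhds_subcover (fun x => ((W x : X.Opens) : Set X))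
    (fun x => (W x).isOpen.mem_nhds (hxW x))
  refine ⟨F.biUnion T, ?_⟩
  intro V t y hy
  have hy' : y ∈ ⋃ x ∈ F, ((W x : X.Opens) : Set X) := hF ▸ Set.mem_univ y
  simp only [Set.mem_iUnion, SetLike.mem_coe, exists_prop] at hy'
  obtain ⟨x, hxF, hyx⟩ := hy'
  obtain ⟨W', hW', hyW', hspan⟩ := hs (i x) (V ⊓ W x) (inf_le_right.trans (hW x))
    (mres P inf_le_left t) y ⟨hy, hyx⟩
  refine ⟨W', hW'.trans inf_le_left, hyW', ?_⟩
  rw [mres_mres] at hspan
  refine Submodule.span_le.2 ?_ hspan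
  rintro _ ⟨j, rfl⟩
  have h3 := mres_mem_span_secSet f P _ (hW'.trans inf_le_right : W' ≤ W x) (hmem x j)
  rw [mres_mres] at h3
  refine Submodule.span_mono (secSet_mono f P ?_ W') h3
  intro a ha
  exact Finset.mem_coe.2 (Finset.mem_biUnion.2 ⟨x, hxF, Finset.mem_coe.1 ha⟩)

/-- the value of the adjoint morphism on the image of the unit -/
theorem homEquiv_symm_app_unit (f : X ⟶ Y) {G : Y.Modules} {P : X.Modules}
    (ψ : G ⟶ (Scheme.Modules.pushforward f).obj P) (V : Y.Opens) (g : Γ(G, V)) :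
    (((Scheme.Modules.pullbackPushforwardAdjunction f).homEquiv G P).symm ψ).app (f ⁻¹ᵁ V)
      (((Scheme.Modules.pullbackPushforwardAdjunction f).unit.app G).app V g) = ψ.app V g := by
  set adj := Scheme.Modules.pullbackPushforwardAdjunction f
  have h1 : adj.unit.app G ≫ (Scheme.Modules.pushforward f).map ((adj.homEquiv G P).symm ψ) = ψ :=
    (adj.homEquiv_unit (f := (adj.homEquiv G P).symm ψ)).symm.trans
      ((adj.homEquiv G P).apply_symm_apply ψ)
  exact congrArg (fun φ : G ⟶ (Scheme.Modules.pushforward f).obj P => φ.app V g) h1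

/-- **a morphism to `f_* P` whose image locally contains a generating set of sections has an
epimorphic adjoint** -/
theorem epi_homEquiv_symm_of_secSet (f : X ⟶ Y) {G : Y.Modules} {P : X.Modules}
    (ψ : G ⟶ (Scheme.Modules.pushforward f).obj P)
    (T : Set (Σ V : Y.affineOpens, Γ(P, f ⁻¹ᵁ V.1)))
    (hT : ∀ (U : X.Opens) (s : Γ(P, U)) (x : X), x ∈ U → ∃ (W : X.Opens) (hW : W ≤ U), x ∈ W ∧
        mres P hW s ∈ Submodule.span Γ(X, W) (secSet f P T W))
    (hψ : ∀ a ∈ T, ∀ y ∈ a.1.1, ∃ (V' : Y.Opens) (hV' : V' ≤ a.1.1), y ∈ V' ∧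
      ∃ g : Γ(G, V'), ψ.app V' g = mres P (f.preimage_mono hV') a.2) :
    Epi (((Scheme.Modules.pullbackPushforwardAdjunction f).homEquiv G P).symm ψ) := by
  set φ := ((Scheme.Modules.pullbackPushforwardAdjunction f).homEquiv G P).symm ψ with hφ
  refine epi_of_locally_mem_range φ ?_
  intro U s x hx
  obtain ⟨W, hW, hxW, hmem⟩ := hT U s x hx
  -- every element of the span is locally in the image
  have key : ∀ z ∈ Submodule.span Γ(X, W) (secSet f P T W),
      ∃ (W' : X.Opens) (hW' : W' ≤ W), x ∈ W' ∧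
        ∃ r : Γ((Scheme.Modules.pullback f).obj G, W'), φ.app W' r = mres P hW' z := by
    intro z hz
    induction hz using Submodule.span_induction with
    | mem z hz =>
      obtain ⟨a, ha, hWa, rfl⟩ := hz
      obtain ⟨V', hV', hyV', g, hg⟩ := hψ a ha (f x) (hWa hxW)
      have hle : W ⊓ f ⁻¹ᵁ V' ≤ f ⁻¹ᵁ V' := inf_le_right
      refine ⟨W ⊓ f ⁻¹ᵁ V', inf_le_left, ⟨hxW, hyV'⟩,
        mres _ hle (((Scheme.Modules.pullbackPushforwardAdjunction f).unit.app G).app V' g), ?_⟩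
      rw [← hom_app_mres, hφ, homEquiv_symm_app_unit, hg]
      exact (mres_mres P _ _ _).trans (mres_mres P _ _ _).symm
    | zero => exact ⟨W, le_rfl, hxW, 0, by rw [map_zero, map_zero]⟩
    | add z₁ z₂ _ _ h₁ h₂ =>
      obtain ⟨W₁, hW₁, hx₁, r₁, hr₁⟩ := h₁
      obtain ⟨W₂, hW₂, hx₂, r₂, hr₂⟩ := h₂
      refine ⟨W₁ ⊓ W₂, inf_le_left.trans hW₁, ⟨hx₁, hx₂⟩,
        mres _ inf_le_left r₁ + mres _ inf_le_right r₂, ?_⟩
      rw [map_add, map_add, ← hom_app_mres, ← hom_app_mres, hr₁, hr₂, mres_mres, mres_mres]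
    | smul c z _ h₁ =>
      obtain ⟨W₁, hW₁, hx₁, r₁, hr₁⟩ := h₁
      refine ⟨W₁, hW₁, hx₁, X.presheaf.map (homOfLE hW₁).op c • r₁, ?_⟩
      rw [mres_smul, ← hr₁]
      exact Scheme.Modules.Hom.app_smul φ _ r₁
  obtain ⟨W', hW', hxW', r, hr⟩ := key _ hmem
  refine ⟨W', hW'.trans hW, hxW', r, ?_⟩
  rw [hr, mres_mres]

end Groth.Agent.H18.ResProp
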