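import Groth.Agent.H18.ResProp.Ample
import Groth.Agent.H18.STL.TwistGG
import Groth.Prelude.Def_MoreMor

/-!
# The resolution property of a scheme with an ample family of invertible modules (helper18)

* `twistDown e p` : for `e : N ⊗ N' ≅ O_X`, the morphism `G ⊗ N' ⟶ M` attached to `p : G ⟶ M ⊗ N`;
  `surjective_stalk_twistDown`;
* `exists_finite_sections_span_germ_eq_top` : for `F` quasi-coherent of finite type and an affine
  `X_f`, finitely many global sections of `F ⊗ N^k` generate it at all points of `X_f` (`k ≫ 0`);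
* `hasResolutionProperty_of_family`, `hasResolutionProperty_of_hasAmpleFamily`.
-/

set_option autoImplicit false
set_option linter.style.haveILetI false
universe u
open CategoryTheory CategoryTheory.Limits AlgebraicGeometry TopologicalSpace Opposite TensorProduct

namespace Groth.Agent.H18.ResProp

open Groth.Agent.H18 Groth.Agent.H18.PUP Groth.Agent.H18.STL Groth.Agent.H5.Stalk

variable {X : Scheme.{u}}

/-- the tensor product of stalkwise surjective morphisms is stalkwise surjective -/
theorem surjective_stalk_tensorMap {F F' E E' : X.Modules} (φ : F ⟶ F') (ψ : E ⟶ E') (x : X)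
    (hφ : Function.Surjective ((stalkFunctor x).map φ).hom)
    (hψ : Function.Surjective ((stalkFunctor x).map ψ).hom) :
    Function.Surjective ((stalkFunctor x).map (KoszTw.tensorMap φ ψ)).hom := by
  have hnat := Groth.Agent.H5.Stalk.Tensor.stalkTensorIso_hom_naturality x φ ψ
  have h1 : (stalkFunctor x).map (KoszTw.tensorMap φ ψ) =
      (Groth.Agent.H5.Stalk.Tensor.stalkTensorIso x F E).hom ≫
        (MonoidalCategoryStruct.tensorHom ((stalkFunctor x).map φ) ((stalkFunctor x).map ψ)) ≫
          (Groth.Agent.H5.Stalk.Tensor.stalkTensorIso x F' E').inv := by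
    rw [← Category.assoc, ← hnat, Category.assoc, Iso.hom_inv_id, Category.comp_id]
  have h2 : Epi (MonoidalCategoryStruct.tensorHom ((stalkFunctor x).map φ)
      ((stalkFunctor x).map ψ)) := by
    refine (ModuleCat.epi_iff_surjective _).2 ?_
    change Function.Surjective (TensorProduct.map ((stalkFunctor x).map φ).hom
      ((stalkFunctor x).map ψ).hom)
    exact TensorProduct.map_surjective hφ hψ
  rw [← ModuleCat.epi_iff_surjective, h1]
  infer_instance

/-- twisting down: for `e : N ⊗ N' ≅ O_X`, the morphism `G ⊗ N' ⟶ M` attached to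
`p : G ⟶ M ⊗ N` -/
noncomputable def twistDown {G M N N' : X.Modules}
    (e : CohB1.tensorMod N N' ≅ Coh.structureModule X) (p : G ⟶ CohB1.tensorMod M N) :
    CohB1.tensorMod G N' ⟶ M :=
  KoszTw.tensorMap p (𝟙 N') ≫ (tensorModAssoc M N N').hom ≫
    KoszTw.tensorMap (𝟙 M) e.hom ≫ (SecTwist.unitorR M).hom

theorem surjective_stalk_twistDown {G M N N' : X.Modules}
    (e : CohB1.tensorMod N N' ≅ Coh.structureModule X) (p : G ⟶ CohB1.tensorMod M N) (y : X)
    (hp : Function.Surjective ((stalkFunctor y).map p).hom) :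
    Function.Surjective ((stalkFunctor y).map (twistDown e p)).hom := by
  have h1 : Function.Surjective ((stalkFunctor y).map (KoszTw.tensorMap p (𝟙 N'))).hom := by
    refine surjective_stalk_tensorMap p (𝟙 N') y hp ?_
    rw [CategoryTheory.Functor.map_id]
    exact Function.surjective_id
  haveI h2 : IsIso (KoszTw.tensorMap (𝟙 M) e.hom) := by
    rw [← KoszTw.tensorBi_obj_map]
    exact (((DCoh.tensorBi (X := X)).obj M).mapIso e).isIso_hom
  haveI h3 : IsIso ((tensorModAssoc M N N').hom ≫
      KoszTw.tensorMap (𝟙 M) e.hom ≫ (SecTwist.unitorR M).hom) := inferInstance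
  haveI h4 : Epi ((stalkFunctor y).map (KoszTw.tensorMap p (𝟙 N'))) :=
    (ModuleCat.epi_iff_surjective _).2 h1
  rw [← ModuleCat.epi_iff_surjective]
  unfold twistDown
  rw [CategoryTheory.Functor.map_comp]
  infer_instance

/-- generation of `F ⊗ E` at `x` by finitely many sections of the form `h j ⊗ e`, `e` a local
basis of `E` -/
theorem span_germ_eq_top_tensorMod_of_basis (F E : X.Modules) {U : X.Opens} {x : X} (hx : x ∈ U)
    {e : Γ(E, U)} (he : IsBasisOn E U e) {ι : Type*} (h : ι → Γ(F, U))
    (hspan : Submodule.span (X.presheaf.stalk x) (Set.range fun j =>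
      (F.presheaf.germ U x hx (h j) : (stalkFunctor x).obj F)) = ⊤)
    (σ : ι → Γ(CohB1.tensorMod F E, (⊤ : X.Opens)))
    (hσ : ∀ j, mres (CohB1.tensorMod F E) (le_top : U ≤ ⊤) (σ j) = SecTwist.tmul F E U (h j) e) :
    Submodule.span (X.presheaf.stalk x) (Set.range fun j =>
      ((CohB1.tensorMod F E).presheaf.germ ⊤ x trivial (σ j) :
        (stalkFunctor x).obj (CohB1.tensorMod F E))) = ⊤ := by
  have he' : Submodule.span (X.presheaf.stalk x)
      {(E.presheaf.germ U x hx e : (stalkFunctor x).obj E)} = ⊤ := by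
    rw [eq_top_iff]
    intro b _
    obtain ⟨r, hr⟩ := (bijective_smul_germ_of_isBasisOn he x hx).2 b
    exact Submodule.mem_span_singleton.2 ⟨r, hr⟩
  have hβ : Function.Surjective (Groth.Agent.H5.Stalk.Tensor.β x F E).hom := by
    have : IsIso (Groth.Agent.H5.Stalk.Tensor.β x F E) :=
      (inferInstance : IsIso (Groth.Agent.H5.Stalk.Tensor.stalkTensorIso x F E).inv)
    exact (ModuleCat.epi_iff_surjective _).1 inferInstance
  have h1 := span_map_tmul_eq_top (R := X.presheaf.stalk x)
    (Groth.Agent.H5.Stalk.Tensor.β x F E).hom hβ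
    (fun j => (F.presheaf.germ U x hx (h j) : (stalkFunctor x).obj F))
    (E.presheaf.germ U x hx e : (stalkFunctor x).obj E) hspan he'
  refine eq_top_iff.2 (le_trans (le_of_eq h1.symm) ?_)
  refine Submodule.span_le.2 ?_
  rintro _ ⟨j, rfl⟩
  have h3 := Groth.Agent.H5.Stalk.Tensor.β_tmul x F E U hx (h j) e
  have h4 : (CohB1.tensorMod F E).presheaf.germ U x hx (SecTwist.tmul F E U (h j) e) =
      (CohB1.tensorMod F E).presheaf.germ ⊤ x trivial (σ j) := by
    rw [← hσ j]
    exact TopCat.Presheaf.germ_res_apply _ (homOfLE (le_top : U ≤ ⊤)) x hx (σ j)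
  have h5 : (Groth.Agent.H5.Stalk.Tensor.β x F E).hom
      ((F.presheaf.germ U x hx (h j) : (stalkFunctor x).obj F) ⊗ₜ[X.presheaf.stalk x]
        (E.presheaf.germ U x hx e : (stalkFunctor x).obj E)) =
      (CohB1.tensorMod F E).presheaf.germ ⊤ x trivial (σ j) := h3.trans h4
  change (Groth.Agent.H5.Stalk.Tensor.β x F E).hom
      ((F.presheaf.germ U x hx (h j) : (stalkFunctor x).obj F) ⊗ₜ[X.presheaf.stalk x]
        (E.presheaf.germ U x hx e : (stalkFunctor x).obj E)) ∈
    Submodule.span (X.presheaf.stalk x) (Set.range fun j =>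
      ((CohB1.tensorMod F E).presheaf.germ ⊤ x trivial (σ j) :
        (stalkFunctor x).obj (CohB1.tensorMod F E)))
  rw [h5]
  exact Submodule.subset_span ⟨j, rfl⟩

/-- `F ⊗ N^k` is generated at the points of an affine `X_f` by finitely many global sections, for
all large `k` -/
theorem exists_finite_sections_span_germ_eq_top [CompactSpace X] [QuasiSeparatedSpace X]
    {N : X.Modules} (hN : PicF.IsInvertible N) (f : Coh.structureModule X ⟶ N)
    (haff : IsAffineOpen (CohB1.genLocus N f)) (F : X.Modules) [F.IsQuasicoherent]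
    [SheafOfModules.IsFiniteType (R := X.ringCatSheaf) F] :
    ∃ k₀ : ℕ, ∀ k, k₀ ≤ k → ∃ (r : ℕ)
      (σ : Fin r → Γ(CohB1.tensorMod F (CohB1.tensorPow N k), (⊤ : X.Opens))),
      ∀ y ∈ CohB1.genLocus N f, Submodule.span (X.presheaf.stalk y) (Set.range fun j =>
        ((CohB1.tensorMod F (CohB1.tensorPow N k)).presheaf.germ ⊤ y trivial (σ j) :
          (stalkFunctor y).obj (CohB1.tensorMod F (CohB1.tensorPow N k)))) = ⊤ := by
  classical
  haveI : Module.Finite Γ(X, CohB1.genLocus N f) Γ(F, CohB1.genLocus N f) :=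
    Groth.Agent.H44.finite_sections_of_isFiniteType F haff
  obtain ⟨S, hS⟩ := (Module.Finite.fg_top :
    (⊤ : Submodule Γ(X, CohB1.genLocus N f) Γ(F, CohB1.genLocus N f)).FG)
  choose K hK using fun h : Γ(F, CohB1.genLocus N f) => exists_extension_of_le hN f F h
  refine ⟨S.sup K, fun k hk => ?_⟩
  have hext : ∀ j : S, ∃ t' : Γ(CohB1.tensorMod F (CohB1.tensorPow N k), (⊤ : X.Opens)),
      mres (CohB1.tensorMod F (CohB1.tensorPow N k)) (le_top : CohB1.genLocus N f ≤ ⊤) t' =
        SecTwist.twist f k F (CohB1.genLocus N f) j.1 :=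
    fun j => hK j.1 k ((Finset.le_sup j.2).trans hk)
  choose σ hσ using hext
  refine ⟨S.card, fun a => σ (S.equivFin.symm a), fun y hy => ?_⟩
  have h0 := span_germ_eq_top_tensorMod_of_basis F (CohB1.tensorPow N k) hy
    (isBasisOn_pow_genLocus hN f k) (fun j : S => j.1) (by
      refine span_germ_eq_top_of_span_eq_top F haff (fun j : S => j.1) ?_ hy
      rw [Subtype.range_coe_subtype]
      exact hS) σ (fun j => hσ j)
  refine eq_top_iff.2 (le_trans (le_of_eq h0.symm) ?_)
  refine Submodule.span_le.2 ?_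
  rintro _ ⟨j, rfl⟩
  refine Submodule.subset_span ⟨S.equivFin j, ?_⟩
  change ((CohB1.tensorMod F (CohB1.tensorPow N k)).presheaf.germ ⊤ y trivial
    (σ (S.equivFin.symm (S.equivFin j))) : (stalkFunctor y).obj _) = _
  rw [Equiv.symm_apply_apply]

/-- the morphism from a free module of finite rank defined by global sections which span the
stalk at `y` is surjective on the stalks at `y` -/
theorem surjective_stalk_desc_sectionHom (Q : X.Modules) {r : ℕ} (σ : Fin r → Γ(Q, (⊤ : X.Opens)))
    (y : X) (hspan : Submodule.span (X.presheaf.stalk y) (Set.range fun j =>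
      (Q.presheaf.germ ⊤ y trivial (σ j) : (stalkFunctor y).obj Q)) = ⊤) :
    Function.Surjective ((stalkFunctor y).map
      (Sigma.desc (fun j : Fin r => sectionHom Q (σ j)) : FlatMod.freeMod X r ⟶ Q)).hom := by
  set p : FlatMod.freeMod X r ⟶ Q := Sigma.desc (fun j : Fin r => sectionHom Q (σ j)) with hp
  have hιp : ∀ j, Sigma.ι (fun _ : Fin r => Coh.structureModule X) j ≫ p = sectionHom Q (σ j) :=
    fun j => Sigma.ι_desc _ j
  refine LinearMap.range_eq_top.1 (eq_top_iff.2 (le_trans (le_of_eq hspan.symm) ?_))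
  refine Submodule.span_le.2 ?_
  rintro _ ⟨j, rfl⟩
  refine ⟨(FlatMod.freeMod X r).presheaf.germ ⊤ y trivial
    ((Sigma.ι (fun _ : Fin r => Coh.structureModule X) j).app ⊤ (1 : Γ(X, (⊤ : X.Opens)))), ?_⟩
  rw [stalkFunctor_map_germ]
  congr 1
  have h1 : p.app ⊤ ((Sigma.ι (fun _ : Fin r => Coh.structureModule X) j).app ⊤
      (1 : Γ(X, (⊤ : X.Opens)))) =
      (Sigma.ι (fun _ : Fin r => Coh.structureModule X) j ≫ p).app ⊤ (1 : Γ(X, (⊤ : X.Opens))) :=
    rfl
  rw [h1, hιp, sectionHom_app_one, mres_self]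

/-- **a quasi-compact quasi-separated scheme covered by affine opens `X_s`, `s` a section of an
invertible module, has the resolution property** -/
theorem hasResolutionProperty_of_family [CompactSpace X] [QuasiSeparatedSpace X]
    (h : ∀ x : X, ∃ (N : X.Modules) (s : Coh.structureModule X ⟶ N), PicF.IsInvertible N ∧
      x ∈ CohB1.genLocus N s ∧ IsAffineOpen (CohB1.genLocus N s)) :
    PerfAux.HasResolutionProperty X := by
  classical
  intro F hFq hFf
  haveI : F.IsQuasicoherent := hFq
  haveI : SheafOfModules.IsFiniteType (R := X.ringCatSheaf) F := hFf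
  choose N s hN hx haff using h
  have hloc : ∀ x : X, ∃ (E : X.Modules) (π : E ⟶ F), FlatMod.IsFinLocFree E ∧
      ∀ y ∈ CohB1.genLocus (N x) (s x), Function.Surjective ((stalkFunctor y).map π).hom := by
    intro x
    obtain ⟨k₀, hk₀⟩ := exists_finite_sections_span_germ_eq_top (hN x) (s x) (haff x) F
    obtain ⟨r, σ, hσ⟩ := hk₀ k₀ le_rfl
    obtain ⟨K', hK', ⟨e⟩⟩ := exists_inverse (isInvertible_tensorPow (hN x) k₀)
    exact ⟨_, twistDown e (Sigma.desc (fun j : Fin r => sectionHom _ (σ j))),
      isFinLocFree_tensorMod _ _ (isFinLocFree_freeMod r) (isFinLocFree_of_isInvertible hK'),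
      fun y hy => surjective_stalk_twistDown e _ y
        (surjective_stalk_desc_sectionHom _ σ y (hσ y hy))⟩
  choose E π hE hπ using hloc
  obtain ⟨T, hT⟩ := CompactSpace.elim_nhds_subcover
    (fun x => ((CohB1.genLocus (N x) (s x) : X.Opens) : Set X))
    (fun x => (CohB1.genLocus (N x) (s x)).isOpen.mem_nhds (hx x))
  let en : Fin T.card ≃ T := T.equivFin.symm
  refine ⟨∐ fun a : Fin T.card => E (en a).1, Sigma.desc fun a => π (en a).1, ?_, ?_⟩
  · exact Groth.Agent.H5.FinLocFreeOps.isFinLocFree_sigma _ Set.univ Set.finite_univ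
      (fun i hi => (hi trivial).elim) (fun a => hE _)
  · refine Groth.Agent.H5.PullbackTensor.epi_of_epi_stalkFunctor_map _ (fun y => ?_)
    have hy : y ∈ ⋃ x ∈ T, ((CohB1.genLocus (N x) (s x) : X.Opens) : Set X) := hT ▸ Set.mem_univ y
    simp only [Set.mem_iUnion, SetLike.mem_coe, exists_prop] at hy
    obtain ⟨x, hxT, hyx⟩ := hy
    obtain ⟨a, rfl⟩ : ∃ a, (en a).1 = x := ⟨en.symm ⟨x, hxT⟩, by rw [Equiv.apply_symm_apply]⟩
    rw [ModuleCat.epi_iff_surjective]
    intro z
    obtain ⟨w, hw⟩ := hπ _ y hyx z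
    refine ⟨((stalkFunctor y).map
      (Sigma.ι (fun a : Fin T.card => E (en a).1) a)).hom w, ?_⟩
    have h1 : Sigma.ι (fun a : Fin T.card => E (en a).1) a ≫
        Sigma.desc (fun a => π (en a).1) = π (en a).1 := Sigma.ι_desc _ a
    have h2 : (stalkFunctor y).map (Sigma.ι (fun a : Fin T.card => E (en a).1) a) ≫
        (stalkFunctor y).map (Sigma.desc fun a => π (en a).1) =
          (stalkFunctor y).map (π (en a).1) := by
      rw [← Functor.map_comp, h1]
    have h3 := congrArg (fun φ => φ.hom w) h2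
    exact h3.trans hw

/-- a scheme covered by affine opens of the form `X_s`, `s` a section of an invertible module, is
quasi-separated -/
theorem quasiSeparatedSpace_of_family
    (h : ∀ x : X, ∃ (N : X.Modules) (s : Coh.structureModule X ⟶ N), PicF.IsInvertible N ∧
      x ∈ CohB1.genLocus N s ∧ IsAffineOpen (CohB1.genLocus N s)) :
    QuasiSeparatedSpace X := by
  choose N s hN hx haff using h
  refine Scheme.quasiSeparatedSpace_of_isOpenCover (fun x => CohB1.genLocus _ (s x)) ?_ haff ?_
  · apply IsOpenCover.mk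
    exact top_le_iff.mp (fun x _ ↦ by simpa using ⟨x, hx x⟩)
  · intro i j
    exact (isAffineOpen_genLocus_inf (hN i) (s i) (haff j)).isCompact

/-- **a scheme with an ample family of invertible modules has the resolution property** -/
theorem hasResolutionProperty_of_hasAmpleFamily (hX : MoreMor.HasAmpleFamily X) :
    PerfAux.HasResolutionProperty X := by
  haveI : CompactSpace X := hX.1
  have h : ∀ x : X, ∃ (N : X.Modules) (s : Coh.structureModule X ⟶ N), PicF.IsInvertible N ∧
      x ∈ CohB1.genLocus N s ∧ IsAffineOpen (CohB1.genLocus N s) := by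
    intro x
    obtain ⟨L, n, s, hL, -, hxs, haff⟩ := hX.2 x
    exact ⟨CohB1.tensorPow L n, s, isInvertible_tensorPow hL n, hxs, haff⟩
  haveI : QuasiSeparatedSpace X := quasiSeparatedSpace_of_family h
  exact hasResolutionProperty_of_family h

end Groth.Agent.H18.ResProp
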