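import Groth.Agent.H18.ResProp.Family
import Groth.Prelude.Def_KSix

/-!
# Quotients of sums of negative powers of an ample family (helper18)

* `exists_inverse_pow_pow` : an inverse `K'` of `(L^a)^k` with `(O ⊗ K') ⊗ L^(a k) ≅ O`;
* `twistDown_comp` : naturality of `twistDown`;
* `exists_epi_inAddL` : for an ample family `(L_i)` every quasi-coherent module of finite type is
  a quotient of a finite direct sum of negative powers of the `L_i`.
-/

set_option autoImplicit false
set_option linter.style.haveILetI false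
universe u
open CategoryTheory CategoryTheory.Limits AlgebraicGeometry TopologicalSpace Opposite TensorProduct

namespace Groth.Agent.H18.ResProp

open Groth.Agent.H18 Groth.Agent.H18.PUP Groth.Agent.H18.STL Groth.Agent.H5.Stalk

variable {X : Scheme.{u}}

/-- an inverse of `(L^a)^k` which is also inverse to `L^(a k)` -/
theorem exists_inverse_pow_pow {L : X.Modules} (hL : PicF.IsInvertible L) (a k : ℕ) :
    ∃ K' : X.Modules, PicF.IsInvertible K' ∧
      Nonempty (CohB1.tensorMod (CohB1.tensorPow (CohB1.tensorPow L a) k) K' ≅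
        Coh.structureModule X) ∧
      Nonempty (CohB1.tensorMod (CohB1.tensorMod (Coh.structureModule X) K')
        (CohB1.tensorPow L (a * k)) ≅ Coh.structureModule X) := by
  obtain ⟨𝔘, c, β, h⟩ := exists_cover_cocycle hL
  have hK := (h.lpow a).lpow k
  have hc := hK.isCocycle
  have h' := hasCocycle_ofCocycle (isCocycle_inv hc)
  refine ⟨ofCocycle 𝔘 ((c ^ a) ^ k).inv, h'.isInvertible, ?_, ?_⟩
  · have h2 := hK.tmul h'
    rw [mul_inv_eq_one hc] at h2
    exact Groth.Agent.H67.CocycleIso.nonempty_iso h2 (hasCocycle_unit 𝔘)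
  · have h3 := ((hasCocycle_unit 𝔘).tmul h').tmul (h.lpow (a * k))
    have hone : (1 * ((c ^ a) ^ k).inv) * c ^ (a * k) = 1 := by
      rw [one_mul, pow_mul, mul_comm]
      exact mul_inv_eq_one hc
    rw [hone] at h3
    exact Groth.Agent.H67.CocycleIso.nonempty_iso h3 (hasCocycle_unit 𝔘)

/-- naturality of `twistDown` in the source -/
theorem twistDown_comp {G' G M N N' : X.Modules}
    (e : CohB1.tensorMod N N' ≅ Coh.structureModule X) (q : G' ⟶ G)
    (p : G ⟶ CohB1.tensorMod M N) :
    twistDown e (q ≫ p) = KoszTw.tensorMap q (𝟙 N') ≫ twistDown e p := by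
  unfold twistDown
  have h1 : KoszTw.tensorMap (q ≫ p) (𝟙 N') =
      KoszTw.tensorMap q (𝟙 N') ≫ KoszTw.tensorMap p (𝟙 N') := by
    have := KoszTw.tensorMap_comp q p (𝟙 N') (𝟙 N')
    rwa [Category.comp_id] at this
  rw [h1, Category.assoc]

/-- the comparison isomorphism `∐ (O ⊗ K') ≅ (∐ O) ⊗ K'` -/
theorem isIso_sigmaDesc_tensorMap (K' : X.Modules) (r : ℕ) :
    IsIso (Sigma.desc (fun j : Fin r =>
      KoszTw.tensorMap (Sigma.ι (fun _ : Fin r => Coh.structureModule X) j) (𝟙 K')) :
        (∐ fun _ : Fin r => CohB1.tensorMod (Coh.structureModule X) K') ⟶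
          CohB1.tensorMod (FlatMod.freeMod X r) K') := by
  haveI : PreservesColimitsOfSize.{u, u} ((DCoh.tensorBi (X := X)).flip.obj K') :=
    Groth.Agent.H45.preservesColimits_tensorBi_flip_obj (O := X.sheaf) K'
  haveI : PreservesColimitsOfSize.{0, 0} ((DCoh.tensorBi (X := X)).flip.obj K') :=
    preservesColimitsOfSize_shrink.{0, u, 0, u} _
  have h1 : (Sigma.desc (fun j : Fin r =>
      KoszTw.tensorMap (Sigma.ι (fun _ : Fin r => Coh.structureModule X) j) (𝟙 K')) :
        (∐ fun _ : Fin r => CohB1.tensorMod (Coh.structureModule X) K') ⟶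
          CohB1.tensorMod (FlatMod.freeMod X r) K') =
      (PreservesCoproduct.iso ((DCoh.tensorBi (X := X)).flip.obj K')
        (fun _ : Fin r => Coh.structureModule X)).inv := by
    rw [PreservesCoproduct.inv_hom]
    apply Sigma.hom_ext
    intro j
    exact (Sigma.ι_desc _ j).trans ((KoszTw.tensorBi_map_app _ K').symm.trans
      (ι_comp_sigmaComparison ((DCoh.tensorBi (X := X)).flip.obj K')
        (fun _ : Fin r => Coh.structureModule X) j).symm)
  rw [h1]
  infer_instance

/-- **quotients of sums of negative powers** -/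
theorem exists_epi_inAddL {ι : Type u} (L : ι → X.Modules) (hL : KSix.IsAmpleFamily L)
    (F : X.Modules) (hFq : Coh.IsQCoh F) (hFf : CohB1.IsFT F) :
    ∃ (M : X.Modules) (π : M ⟶ F), KSix.InAddL L M ∧ Epi π := by
  classical
  haveI : CompactSpace X := hL.1
  haveI : QuasiSeparatedSpace X := hL.2.1
  haveI : F.IsQuasicoherent := hFq
  haveI : SheafOfModules.IsFiniteType (R := X.ringCatSheaf) F := hFf
  have hinv := hL.2.2.1
  choose i n s hx haff using hL.2.2.2
  -- local data
  have hloc : ∀ x : X, ∃ (k r : ℕ) (K' : X.Modules)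
      (e : CohB1.tensorMod (CohB1.tensorPow (CohB1.tensorPow (L (i x)) (n x + 1)) k) K' ≅
        Coh.structureModule X)
      (σ : Fin r → Γ(CohB1.tensorMod F
        (CohB1.tensorPow (CohB1.tensorPow (L (i x)) (n x + 1)) k), (⊤ : X.Opens))),
      0 < k ∧ Nonempty (CohB1.tensorMod (CohB1.tensorMod (Coh.structureModule X) K')
        (CohB1.tensorPow (L (i x)) ((n x + 1) * k)) ≅ Coh.structureModule X) ∧
      ∀ y ∈ CohB1.genLocus _ (s x), Function.Surjective ((stalkFunctor y).map
        (twistDown e (Sigma.desc (fun j : Fin r => sectionHom _ (σ j)) :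
          FlatMod.freeMod X r ⟶ _))).hom := by
    intro x
    obtain ⟨k₀, hk₀⟩ := exists_finite_sections_span_germ_eq_top
      (isInvertible_tensorPow (hinv (i x)) (n x + 1)) (s x) (haff x) F
    obtain ⟨r, σ, hσ⟩ := hk₀ (k₀ + 1) (Nat.le_succ _)
    obtain ⟨K', -, ⟨e⟩, he'⟩ := exists_inverse_pow_pow (hinv (i x)) (n x + 1) (k₀ + 1)
    exact ⟨k₀ + 1, r, K', e, σ, Nat.succ_pos _, he', fun y hy =>
      surjective_stalk_twistDown e _ y (surjective_stalk_desc_sectionHom _ σ y (hσ y hy))⟩
  choose k r K' e σ hk he' hsurj using hloc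
  obtain ⟨T, hT⟩ := CompactSpace.elim_nhds_subcover
    (fun x => ((CohB1.genLocus _ (s x) : X.Opens) : Set X))
    (fun x => (CohB1.genLocus _ (s x)).isOpen.mem_nhds (hx x))
  -- the summands
  let I := Σ x : T, Fin (r x.1)
  let N' : I → X.Modules := fun a => CohB1.tensorMod (Coh.structureModule X) (K' a.1.1)
  let π' : ∀ a : I, N' a ⟶ F := fun a => twistDown (e a.1.1) (sectionHom _ (σ a.1.1 a.2))
  let en : Fin (Fintype.card I) ≃ I := (Fintype.equivFin I).symm
  refine ⟨⨁ N', biproduct.desc π', ⟨Fintype.card I, N' ∘ en, fun a => ?_, ⟨?_⟩⟩, ?_⟩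
  · exact ⟨i (en a).1.1, (n (en a).1.1 + 1) * k (en a).1.1,
      Nat.mul_pos (Nat.succ_pos _) (hk _), he' _⟩
  · exact (biproduct.whiskerEquiv en (fun _ => Iso.refl _)).symm
  · refine Groth.Agent.H5.PullbackTensor.epi_of_epi_stalkFunctor_map _ (fun y => ?_)
    have hy : y ∈ ⋃ x ∈ T, ((CohB1.genLocus _ (s x) : X.Opens) : Set X) := hT ▸ Set.mem_univ y
    simp only [Set.mem_iUnion, SetLike.mem_coe, exists_prop] at hy
    obtain ⟨x, hxT, hyx⟩ := hy
    rw [ModuleCat.epi_iff_surjective]
    -- the part of the sum over `x`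
    let incl : (∐ fun _ : Fin (r x) => CohB1.tensorMod (Coh.structureModule X) (K' x)) ⟶ ⨁ N' :=
      Sigma.desc (fun j : Fin (r x) => biproduct.ι N' (⟨⟨x, hxT⟩, j⟩ : I))
    let cmp : (∐ fun _ : Fin (r x) => CohB1.tensorMod (Coh.structureModule X) (K' x)) ⟶
        CohB1.tensorMod (FlatMod.freeMod X (r x)) (K' x) :=
      Sigma.desc (fun j : Fin (r x) =>
        KoszTw.tensorMap (Sigma.ι (fun _ : Fin (r x) => Coh.structureModule X) j) (𝟙 (K' x)))
    haveI : IsIso cmp := isIso_sigmaDesc_tensorMap (K' x) (r x)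
    have hfac : incl ≫ biproduct.desc π' = cmp ≫ twistDown (e x)
        (Sigma.desc (fun j : Fin (r x) => sectionHom _ (σ x j)) : FlatMod.freeMod X (r x) ⟶ _) := by
      apply Sigma.hom_ext
      intro j
      rw [← Category.assoc, ← Category.assoc]
      have h1 : Sigma.ι (fun _ : Fin (r x) => CohB1.tensorMod (Coh.structureModule X) (K' x)) j ≫
          incl = biproduct.ι N' (⟨⟨x, hxT⟩, j⟩ : I) := Sigma.ι_desc _ j
      have h2 : Sigma.ι (fun _ : Fin (r x) => CohB1.tensorMod (Coh.structureModule X) (K' x)) j ≫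
          cmp = KoszTw.tensorMap (Sigma.ι (fun _ : Fin (r x) => Coh.structureModule X) j)
            (𝟙 (K' x)) := Sigma.ι_desc _ j
      rw [h1, h2, biproduct.ι_desc, ← twistDown_comp]
      change twistDown (e x) (sectionHom _ (σ x j)) = _
      congr 1
      exact (Sigma.ι_desc (f := fun _ : Fin (r x) => Coh.structureModule X)
        (fun j : Fin (r x) => sectionHom _ (σ x j)) j).symm
    intro z
    obtain ⟨w, hw⟩ := hsurj x y hyx z
    have hcmp : Function.Surjective ((stalkFunctor y).map cmp).hom :=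
      (ModuleCat.epi_iff_surjective _).1 inferInstance
    obtain ⟨w', hw'⟩ := hcmp w
    refine ⟨((stalkFunctor y).map incl).hom w', ?_⟩
    have h3 : (stalkFunctor y).map incl ≫ (stalkFunctor y).map (biproduct.desc π') =
        (stalkFunctor y).map cmp ≫ (stalkFunctor y).map (twistDown (e x)
          (Sigma.desc (fun j : Fin (r x) => sectionHom _ (σ x j)) :
            FlatMod.freeMod X (r x) ⟶ _)) := by
      rw [← Functor.map_comp, ← Functor.map_comp, hfac]
    have h4 := congrArg (fun φ => φ.hom w') h3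
    refine h4.trans ?_
    change ((stalkFunctor y).map (twistDown (e x) _)).hom (((stalkFunctor y).map cmp).hom w') = z
    rw [hw', hw]

end Groth.Agent.H18.ResProp
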