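import Groth.Agent.H18.FTypeConverse
import Groth.Agent.H18.SectionHom
import Groth.Prelude.Def_FlatMod2

/-!
# Finite global generation (helper18)

On a quasi-compact scheme, a module of finite type which is a quotient of a free module is a
quotient of a free module of finite rank.
-/

set_option autoImplicit false
universe u
open CategoryTheory CategoryTheory.Limits AlgebraicGeometry TopologicalSpace Opposite

namespace Groth.Agent.H18.ResProp

open Groth.Agent.H18

variable {X : Scheme.{u}}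

/-- an epimorphism from a free module: every section is locally a combination of the images of the
generators -/
theorem locally_mem_span_of_epi_free (M : X.Modules) {I : Type u}
    (p : (SheafOfModules.free I : X.Modules) ⟶ M) [Epi p] (V : X.Opens) (t : Γ(M, V)) (x : X)
    (hx : x ∈ V) :
    ∃ (W : X.Opens) (hW : W ≤ V), x ∈ W ∧ mres M hW t ∈ Submodule.span Γ(X, W)
      (Set.range fun i : I => mres M (le_top : W ≤ ⊤)
        (PresheafOfModules.sections.eval (M.freeHomEquiv p i) (op (⊤ : X.Opens)))) := by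
  haveI : Epi (M.freeHomEquiv.symm (M.freeHomEquiv p)) := by
    rw [Equiv.symm_apply_apply]; infer_instance
  obtain ⟨S, hS, hS'⟩ := exists_cover_mem_span_of_epi M (M.freeHomEquiv p) V t
  obtain ⟨W, f, hf, hxW⟩ := hS x hx
  refine ⟨W, leOfHom f, hxW, ?_⟩
  have := hS' f hf
  have hev : ∀ i, PresheafOfModules.sections.eval (M.freeHomEquiv p i) (op W) =
      mres M (le_top : W ≤ ⊤)
        (PresheafOfModules.sections.eval (M.freeHomEquiv p i) (op (⊤ : X.Opens))) := by
    intro i
    exact (PresheafOfModules.sections_property (M.freeHomEquiv p i)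
      (X := op (⊤ : X.Opens)) (Y := op W) (homOfLE (le_top : W ≤ ⊤)).op).symm
  simp only [hev] at this
  exact this

/-- on a quasi-compact scheme, a module of finite type which is a quotient of a free module is a
quotient of a free module of finite rank -/
theorem exists_fin_epi_of_epi_free [CompactSpace X] (M : X.Modules)
    (hM : SheafOfModules.IsFiniteType (R := X.ringCatSheaf) M) {I : Type u}
    (p : (SheafOfModules.free I : X.Modules) ⟶ M) [Epi p] :
    ∃ (k : ℕ) (q : FlatMod.freeMod X k ⟶ M), Epi q := by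
  classical
  obtain ⟨ι, U, hU, σ, hσ, s, hs⟩ := exists_local_generators_of_isFiniteType M hM
  let g : I → Γ(M, (⊤ : X.Opens)) := fun i =>
    PresheafOfModules.sections.eval (M.freeHomEquiv p i) (op (⊤ : X.Opens))
  have key : ∀ x : X, ∃ (i : ι) (W : X.Opens) (hW : W ≤ U i) (T : Finset I), x ∈ W ∧
      ∀ j : σ i, mres M hW (s i j) ∈ Submodule.span Γ(X, W)
        (Set.range fun a : T => mres M (le_top : W ≤ ⊤) (g a)) := by
    intro x
    obtain ⟨i, hxi⟩ := hU.exists_mem x
    haveI := hσ i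
    have h1 : ∀ j : σ i, ∃ (W : X.Opens) (hW : W ≤ U i) (T : Finset I), x ∈ W ∧
        mres M hW (s i j) ∈ Submodule.span Γ(X, W)
          (Set.range fun a : T => mres M (le_top : W ≤ ⊤) (g a)) := by
      intro j
      obtain ⟨W, hW, hxW, hmem⟩ := locally_mem_span_of_epi_free M p (U i) (s i j) x hxi
      obtain ⟨T', hT'sub, hT'mem⟩ := Submodule.mem_span_finite_of_mem_span hmem
      have hpre : ∀ y : T', ∃ a : I, mres M (le_top : W ≤ ⊤) (g a) = y.1 := fun y => hT'sub y.2
      choose f hf using hpre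
      refine ⟨W, hW, Finset.univ.image f, hxW, ?_⟩
      refine Submodule.span_mono ?_ hT'mem
      intro y hy
      exact ⟨⟨f ⟨y, hy⟩, Finset.mem_image_of_mem f (Finset.mem_univ _)⟩, hf ⟨y, hy⟩⟩
    choose W hW T hxW hmem using h1
    let W₀ : X.Opens := U i ⊓ ⟨⋂ j, (W j : Set X), isOpen_iInter_of_finite fun j => (W j).isOpen⟩
    have hW₀j : ∀ j, W₀ ≤ W j := fun j => inf_le_right.trans (fun y hy => Set.mem_iInter.1 hy j)
    haveI : Fintype (σ i) := Fintype.ofFinite _
    refine ⟨i, W₀, inf_le_left, Finset.univ.biUnion T, ⟨hxi, Set.mem_iInter.2 hxW⟩, fun j => ?_⟩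
    have h2 := mres_mem_span M (hW₀j j) _ _ (hmem j)
    rw [mres_mres] at h2
    refine Submodule.span_mono ?_ h2
    rintro _ ⟨a, rfl⟩
    refine ⟨⟨a.1, Finset.mem_biUnion.2 ⟨j, Finset.mem_univ j, a.2⟩⟩, ?_⟩
    exact (mres_mres M _ _ _).symm
  choose i W hW T hxW hmem using key
  obtain ⟨F, hF⟩ := CompactSpace.elim_nhds_subcover (fun x => ((W x : X.Opens) : Set X))
    (fun x => (W x).isOpen.mem_nhds (hxW x))
  let T₀ : Finset I := F.biUnion T
  let e : Fin T₀.card ≃ T₀ := T₀.equivFin.symm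
  refine ⟨T₀.card, Sigma.desc (fun a : Fin T₀.card => sectionHom M (g (e a))), ?_⟩
  refine epi_desc_sectionHom M (fun a => g (e a)) ?_
  intro V t y hy
  have hy' : y ∈ ⋃ x ∈ F, ((W x : X.Opens) : Set X) := hF ▸ Set.mem_univ y
  simp only [Set.mem_iUnion, SetLike.mem_coe, exists_prop] at hy'
  obtain ⟨x, hxF, hyx⟩ := hy'
  obtain ⟨W', hW', hyW', hspan⟩ := hs (i x) (V ⊓ W x) (inf_le_right.trans (hW x))
    (mres M inf_le_left t) y ⟨hy, hyx⟩
  refine ⟨W', hW'.trans inf_le_left, hyW', ?_⟩
  rw [mres_mres] at hspan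
  refine Submodule.span_le.2 ?_ hspan
  rintro _ ⟨j, rfl⟩
  have h3 := mres_mem_span M (hW'.trans inf_le_right : W' ≤ W x) _ _ (hmem x j)
  rw [mres_mres] at h3
  refine Submodule.span_mono ?_ h3
  rintro _ ⟨a, rfl⟩
  have ha : a.1 ∈ T₀ := Finset.mem_biUnion.2 ⟨x, hxF, a.2⟩
  refine ⟨e.symm ⟨a.1, ha⟩, ?_⟩
  change mres M _ (g (e (e.symm ⟨a.1, ha⟩))) = _
  rw [Equiv.apply_symm_apply]
  exact (mres_mres M _ _ _).symm

end Groth.Agent.H18.ResProp
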