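import Groth.Agent.H18.ResProp.Relative

/-!
# Resolution property from a relatively generating family

`W ⊗ f^*(-)` preserves colimits and epimorphisms; if `Y` has the resolution property and `(W_i)` is an
`f`-generating family of finite locally free modules on `X`, then `X` has the resolution property.
-/

set_option autoImplicit false
set_option linter.style.haveILetI false
universe u
open CategoryTheory CategoryTheory.Limits AlgebraicGeometry

namespace Groth.Agent.H18.ResProp

variable {X Y : Scheme.{u}}

/-- the functor `W ⊗ f^*(-)` -/
noncomputable def twistPull (f : X ⟶ Y) (W : X.Modules) : Y.Modules ⥤ X.Modules :=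
  Scheme.Modules.pullback f ⋙ (DCoh.tensorBi (X := X)).obj W

theorem twistPull_obj (f : X ⟶ Y) (W : X.Modules) (N : Y.Modules) :
    (twistPull f W).obj N = CohB1.tensorMod W ((Scheme.Modules.pullback f).obj N) := rfl

noncomputable instance preservesColimits_twistPull (f : X ⟶ Y) (W : X.Modules) :
    PreservesColimitsOfSize.{u, u} (twistPull f W) := by
  haveI : PreservesColimitsOfSize.{u, u} ((DCoh.tensorBi (X := X)).obj W) :=
    Groth.Agent.H45.preservesColimits_tensorBi_obj (O := X.sheaf) W
  haveI : PreservesColimitsOfSize.{u, u} (Scheme.Modules.pullback f) :=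
    (Scheme.Modules.pullbackPushforwardAdjunction f).leftAdjoint_preservesColimits
  unfold twistPull
  infer_instance

instance preservesEpimorphisms_twistPull (f : X ⟶ Y) (W : X.Modules) :
    (twistPull f W).PreservesEpimorphisms :=
  preservesEpimorphisms_of_preservesColimitsOfShape _

theorem isFinLocFree_twistPull (f : X ⟶ Y) (W : X.Modules) (hW : FlatMod.IsFinLocFree W)
    (V : Y.Modules) (hV : FlatMod.IsFinLocFree V) :
    FlatMod.IsFinLocFree ((twistPull f W).obj V) := by
  haveI := isQuasicoherent_of_isFinLocFree _ hV
  rw [twistPull_obj]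
  exact isFinLocFree_tensorMod _ _ hW (Groth.Agent.H71.QCoh.isFinLocFree_pullback f _ hV)

/-- a colimit-preserving functor sends a jointly epimorphic coproduct presentation to a jointly
epimorphic family -/
theorem twistPull_hom_ext (f : X ⟶ Y) (W : X.Modules) {κ : Type u} (V : κ → Y.Modules)
    {Z : X.Modules} (g h : (twistPull f W).obj (∐ V) ⟶ Z)
    (hgh : ∀ l, (twistPull f W).map (Sigma.ι V l) ≫ g = (twistPull f W).map (Sigma.ι V l) ≫ h) :
    g = h := by
  refine (isColimitOfPreserves (twistPull f W)
    (colimit.isColimit (Discrete.functor V))).hom_ext ?_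
  rintro ⟨l⟩
  exact hgh l

end Groth.Agent.H18.ResProp
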