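import Groth.Agent.H18.ResProp.Capture
import Groth.Agent.H18.ResProp.Ample
import Groth.Agent.H12.SubSum
import Groth.Agent.H8.QcqsPush
import Groth.Agent.H71.QCoh.PullbackProps
import Groth.Agent.H44.Retract
import Groth.Agent.H18.QCohLocal
import Groth.Agent.H18.STL.RelAmple

/-!
# The resolution property along a morphism with a relatively ample module (helper18)

* `hasResolutionProperty_of_isRelAmple` : if `Y` is quasi-compact and quasi-separated with the
  resolution property and `f : X ⟶ Y` admits an `f`-ample module, then `X` has the resolution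
  property.
-/

set_option autoImplicit false
set_option linter.style.haveILetI false
universe u
open CategoryTheory CategoryTheory.Limits AlgebraicGeometry TopologicalSpace Opposite

namespace Groth.Agent.H18.ResProp

open Groth.Agent.H18 Groth.Agent.H18.STL Groth.Agent.H18.CounitCrit

variable {X Y : Scheme.{u}}

/-- finite locally free modules are quasi-coherent -/
theorem isQuasicoherent_of_isFinLocFree (M : X.Modules) (h : FlatMod.IsFinLocFree M) :
    M.IsQuasicoherent := by
  choose U n hxU e using h
  refine Groth.Agent.H18.isQuasicoherent_of_isOpenCover M U ?_ (fun x => ?_)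
  · refine TopologicalSpace.IsOpenCover.mk (eq_top_iff.2 fun x _ => ?_)
    exact TopologicalSpace.Opens.mem_iSup.2 ⟨x, hxU x⟩
  · have := Groth.Agent.H44.isQuasicoherent_freeMod (X := (U x : Scheme.{u})) (n x)
    exact (SheafOfModules.isQuasicoherent (U x : Scheme.{u}).ringCatSheaf).prop_of_iso
      (e x).some.symm this

/-- a morphism with a relatively ample module is quasi-separated -/
theorem quasiSeparated_of_isRelAmple (f : X ⟶ Y) {L : X.Modules}
    (hL : RelAmple.IsRelAmple f L) : QuasiSeparated f := by
  rw [HasAffineProperty.eq_targetAffineLocally (P := @QuasiSeparated)]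
  intro V
  exact quasiSeparatedSpace_of_cover (hL.2 V).1 (hL.2 V).2.2

/-- on a quasi-compact quasi-separated scheme, finitely many sections of a quasi-coherent module
over affine opens lie in a quasi-coherent submodule of finite type -/
theorem captured_of_finite_of_qcqs [CompactSpace Y] [QuasiSeparatedSpace Y] (G : Y.Modules)
    [G.IsQuasicoherent] (T : Set (Σ U : Y.affineOpens, Γ(G, U.1))) (hT : T.Finite) :
    Groth.Agent.H12.SubSum.Captured G T := by
  refine Groth.Agent.H12.SubSum.captured_of_finite (fun a => ?_) T hT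
  obtain ⟨G', i', h1, h2, h3, g, hg⟩ :=
    Groth.Agent.H12.ExtCases.exists_ft_sub_of_section_of_ext G a.1.1 a.1.2 a.2
      (fun E i _ _ hE => Groth.Agent.H12.ExtCases.exists_ft_extension_of_qcqs a.1.1
        a.1.2.isCompact G E i hE)
  refine ⟨G', i', h1, h2, h3, ?_⟩
  rintro a' rfl
  exact ⟨g, hg⟩

/-- an epimorphism is locally surjective on sections -/
theorem exists_app_eq_mres_of_epi {A B : Y.Modules} (ρ : A ⟶ B) [Epi ρ] (V : Y.Opens)
    (b : Γ(B, V)) (y : Y) (hy : y ∈ V) :
    ∃ (V' : Y.Opens) (hV' : V' ≤ V), y ∈ V' ∧ ∃ a : Γ(A, V'), ρ.app V' a = mres B hV' b := by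
  obtain ⟨S, hS, hS'⟩ := @exists_cover_mem_range_of_epi _ _ _ Y.ringCatSheaf _ _ A B ρ ‹Epi ρ› V b
  obtain ⟨V', g, hg, hyV'⟩ := hS y hy
  obtain ⟨a, ha⟩ := hS' g hg
  exact ⟨V', leOfHom g, hyV', a, ha⟩

/-- **the resolution property along a morphism with a relatively ample module** -/
theorem hasResolutionProperty_of_isRelAmple (f : X ⟶ Y) [CompactSpace Y]
    [QuasiSeparatedSpace Y] (hY : PerfAux.HasResolutionProperty Y) {L : X.Modules}
    (hL : RelAmple.IsRelAmple f L) : PerfAux.HasResolutionProperty X := by
  classical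
  intro M hMq hMf
  haveI : QuasiCompact f := hL.1
  haveI : QuasiSeparated f := quasiSeparated_of_isRelAmple f hL
  haveI : CompactSpace X := by
    constructor
    have := QuasiCompact.isCompact_preimage (f := f) Set.univ isOpen_univ isCompact_univ
    simpa using this
  haveI : M.IsQuasicoherent := hMq
  haveI : SheafOfModules.IsFiniteType (R := X.ringCatSheaf) M := hMf
  have hLinv : PicF.IsInvertible L := isInvertible_of_isRelAmple f hL
  obtain ⟨N, hN⟩ := exists_forall_epi_counit_twist f hL M
  have hepi := hN N le_rfl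
  have hNinv : PicF.IsInvertible (CohB1.tensorPow L N) := isInvertible_tensorPow hLinv N
  haveI : (CohB1.tensorPow L N).IsQuasicoherent := isQuasicoherent_of_isInvertible hNinv
  haveI : SheafOfModules.IsFiniteType (R := X.ringCatSheaf) (CohB1.tensorPow L N) :=
    Groth.Agent.H71.QCoh.isFiniteType_of_isFinLocFree _ (isFinLocFree_of_isInvertible hNinv)
  set P := CohB1.tensorMod M (CohB1.tensorPow L N) with hPdef
  have hPft : SheafOfModules.IsFiniteType (R := X.ringCatSheaf) P :=
    Groth.Agent.H71.QCoh.isFiniteType_tensorMod M (CohB1.tensorPow L N)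
  haveI hPq : P.IsQuasicoherent :=
    Groth.Agent.H71.QCoh.isQuasicoherent_tensorMod M (CohB1.tensorPow L N)
  -- finitely many sections over preimages of affine opens generate `P`
  obtain ⟨T, hT⟩ := exists_finite_secSet_of_epi_counit f P hPft hepi
  -- capture them in a quasi-coherent submodule of finite type of `f_* P`
  haveI hGq : ((Scheme.Modules.pushforward f).obj P).IsQuasicoherent :=
    Groth.Agent.H8.isQuasicoherent_pushforward_of_qcqs f P
  let T' : Set (Σ U : Y.affineOpens, Γ((Scheme.Modules.pushforward f).obj P, U.1)) :=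
    (T : Set (Σ V : Y.affineOpens, Γ(P, f ⁻¹ᵁ V.1)))
  have hT' : T'.Finite := T.finite_toSet
  obtain ⟨E, i, hi, hEq, hEft, hcap⟩ := captured_of_finite_of_qcqs
    ((Scheme.Modules.pushforward f).obj P) T' hT'
  -- resolve the submodule
  obtain ⟨E₀, ρ, hE₀, hρ⟩ := hY E hEq hEft
  -- the adjoint morphism is an epimorphism
  have hφ : Epi (((Scheme.Modules.pullbackPushforwardAdjunction f).homEquiv E₀ P).symm (ρ ≫ i)) := by
    refine epi_homEquiv_symm_of_secSet f (ρ ≫ i) (T : Set _) hT ?_
    intro a ha y hy
    obtain ⟨g, hg⟩ := hcap a ha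
    obtain ⟨V', hV', hyV', g', hg'⟩ := exists_app_eq_mres_of_epi ρ a.1.1 g y hy
    refine ⟨V', hV', hyV', g', ?_⟩
    change i.app V' (ρ.app V' g') = _
    rw [hg', ← hom_app_mres]
    exact congrArg _ hg
  -- twist down
  obtain ⟨N', π, hN', hπ⟩ := exists_epi_tensorMod_inverse hNinv
    (((Scheme.Modules.pullbackPushforwardAdjunction f).homEquiv E₀ P).symm (ρ ≫ i))
  haveI := isQuasicoherent_of_isFinLocFree E₀ hE₀
  exact ⟨_, π, isFinLocFree_tensorMod _ _
    (Groth.Agent.H71.QCoh.isFinLocFree_pullback f E₀ hE₀) (isFinLocFree_of_isInvertible hN'), hπ⟩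

end Groth.Agent.H18.ResProp
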