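import Groth.Agent.H5.Stalk.Tensor
import Groth.Agent.H18.FTypeCriterion

/-!
# Spreading out relations between germs (helper18)

If the germ of a section `m` at `x` lies in the span of the germs of sections `t i`, then on a
neighbourhood of `x` the section `m` is a combination of finitely many of the `t i`.
-/

set_option autoImplicit false
universe u
open CategoryTheory CategoryTheory.Limits AlgebraicGeometry TopologicalSpace Opposite

namespace Groth.Agent.H18.ResProp

open Groth.Agent.H18 Groth.Agent.H5.Stalk Groth.Agent.H5.Stalk.Tensor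

variable {X : Scheme.{u}}

/-- sections with the same germ at `x` agree near `x` -/
theorem exists_mres_eq_of_gm_eq (M : X.Modules) {x : X} {U U' : X.Opens} (hx : x ∈ U)
    (hx' : x ∈ U') (m : Γ(M, U)) (m' : Γ(M, U'))
    (h : gm x M U hx m = gm x M U' hx' m') :
    ∃ (W : X.Opens) (hW : W ≤ U) (hW' : W ≤ U'), x ∈ W ∧ mres M hW m = mres M hW' m' := by
  obtain ⟨W, hxW, iU, iU', heq⟩ := TopCat.Presheaf.germ_eq M.presheaf x hx hx' m m' h
  exact ⟨W, leOfHom iU, leOfHom iU', hxW, heq⟩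

/-- spreading out: if the germ of `m` at `x` lies in the span of the germs of the sections `t i`,
then near `x` the section `m` is a combination of finitely many of the `t i` -/
theorem exists_mres_eq_sum_of_gm_mem_span (M : X.Modules) {x : X} {U : X.Opens} (hx : x ∈ U)
    (m : Γ(M, U)) {ι : Type*} (V : ι → X.Opens) (hxV : ∀ i, x ∈ V i) (t : ∀ i, Γ(M, V i))
    (h : gm x M U hx m ∈ Submodule.span (X.presheaf.stalk x)
      (Set.range fun i => gm x M (V i) (hxV i) (t i))) :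
    ∃ (W : X.Opens) (hW : W ≤ U), x ∈ W ∧ ∃ (S : Finset ι) (hS : ∀ i ∈ S, W ≤ V i)
      (c : ∀ i ∈ S, Γ(X, W)),
      mres M hW m = ∑ i ∈ S.attach, c i.1 i.2 • mres M (hS i.1 i.2) (t i.1) := by
  classical
  obtain ⟨c, hc⟩ := (Finsupp.mem_span_range_iff_exists_finsupp).1 h
  choose U' hxU' ρ hρ using fun i => X.presheaf.exists_germ_eq (c i)
  let S := c.support
  let W₀ : X.Opens := U ⊓ S.inf (fun i => V i ⊓ U' i)
  have hxW₀ : x ∈ W₀ := ⟨hx, Finset.inf_induction (p := fun O : X.Opens => x ∈ O) trivial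
    (fun _ h1 _ h2 => ⟨h1, h2⟩) (fun i _ => ⟨hxV i, hxU' i⟩)⟩
  have hW₀V : ∀ i ∈ S, W₀ ≤ V i := fun i hi =>
    inf_le_right.trans ((Finset.inf_le hi).trans inf_le_left)
  have hW₀U' : ∀ i ∈ S, W₀ ≤ U' i := fun i hi =>
    inf_le_right.trans ((Finset.inf_le hi).trans inf_le_right)
  let m' : Γ(M, W₀) := ∑ i ∈ S.attach,
    (X.presheaf.map (homOfLE (hW₀U' i.1 i.2)).op (ρ i.1)) • mres M (hW₀V i.1 i.2) (t i.1)
  have hgerm : gm x M W₀ hxW₀ m' = gm x M U hx m := by
    rw [← hc, Finsupp.sum, ← Finset.sum_attach]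
    change gm x M W₀ hxW₀ (∑ i ∈ S.attach, _) = _
    rw [map_sum]
    refine Finset.sum_congr rfl (fun i _ => ?_)
    rw [gm_smul]
    have h1 : gm x M W₀ hxW₀ (mres M (hW₀V i.1 i.2) (t i.1)) = gm x M (V i.1) (hxV i.1) (t i.1) :=
      gm_res x M (homOfLE (hW₀V i.1 i.2)) hxW₀ (t i.1)
    have h2 : X.presheaf.germ W₀ x hxW₀ (X.presheaf.map (homOfLE (hW₀U' i.1 i.2)).op (ρ i.1)) =
        c i.1 := by
      rw [← hρ i.1]
      exact TopCat.Presheaf.germ_res_apply X.presheaf (homOfLE (hW₀U' i.1 i.2)) x hxW₀ (ρ i.1)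
    rw [h1, h2]
  obtain ⟨W, hW, hW', hxW, heq⟩ := exists_mres_eq_of_gm_eq M hx hxW₀ m m' hgerm.symm
  refine ⟨W, hW, hxW, S, fun i hi => hW'.trans (hW₀V i hi),
    fun i hi => X.presheaf.map (homOfLE (hW'.trans (hW₀U' i hi))).op (ρ i), ?_⟩
  rw [heq]
  change mres M hW' (∑ i ∈ S.attach, _) = _
  rw [map_sum]
  refine Finset.sum_congr rfl (fun i _ => ?_)
  rw [mres_smul, mres_mres]
  congr 1
  rw [← ConcreteCategory.comp_apply, ← Functor.map_comp]
  rfl

end Groth.Agent.H18.ResProp
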